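import Cfsg.Agent.Lib.FusionP3.GT.Basic
import Cfsg.Agent.Lib.FusionSystem.Normal
import Cfsg.Agent.Lib.FusionAlperin.Model
import Cfsg.Agent.Lib.FusionAlperin.Join

/-!
A saturated system with non-trivial core on a group of class two, whose non-central elements have
commutative centralisers and commutator set the whole of the distinguished central subgroup, is
constrained.
-/

set_option autoImplicit false
set_option linter.style.haveILetI false
set_option linter.unusedSectionVars false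

universe u

namespace Cfsg.Agent.Lib.FusionP3.HeisCore

open Cfsg Cfsg.FusionSystem Cfsg.Agent.Lib.FS

variable {Ω : Type u} [Group Ω] {S : Subgroup Ω} [Finite S] {p : ℕ} [Fact p.Prime] {F : FusionSystem S}

/-- Class two, full commutator sets, commutative centralisers of non-central elements. -/
structure Heis (S Z : Subgroup Ω) : Prop where
  le : Z ≤ S
  comm_mem : ∀ x ∈ S, ∀ y ∈ S, x * y * x⁻¹ * y⁻¹ ∈ Z
  central : ∀ z ∈ Z, ∀ s ∈ S, s * z = z * s
  surj : ∀ x ∈ S, x ∉ Z → ∀ z ∈ Z, ∃ s ∈ S, s * x * s⁻¹ = x * z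
  abel : ∀ x ∈ S, x ∉ Z → ∀ a ∈ S, ∀ b ∈ S, a * x = x * a → b * x = x * b → a * b = b * a

variable {Z : Subgroup Ω}

theorem Heis.le_of_centric (h : Heis S Z) {P : Subgroup Ω} (hc : F.IsCentric P) : Z ≤ P := fun z hz =>
  hc.2 P (isConj_refl F hc.1) (mem_centralizerIn'.2 ⟨h.le hz, fun y hy => by
    rw [← h.central z hz y (hc.1 hy), mul_inv_cancel_right]⟩)

/-- If `Z` is invariant in a centric radical subgroup then that subgroup is `S`. -/
theorem eq_of_invariant (hS : IsPGroup p S) (h : Heis S Z) {P : Subgroup Ω} (hc : F.IsCentric P)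
    (hr : F.IsRadical p P) (hinv : ∀ α ∈ F.autGroup P, ∀ x : P, (x : Ω) ∈ Z → ((α x : P) : Ω) ∈ Z) :
    P = S := by
  refine le_antisymm hc.1 ?_
  have hS' : F.StronglyClosed S := ⟨le_rfl, fun R _ φ hφ x => (F.le_of_mem hφ).2 x⟩
  have hiff : ∀ α ∈ F.autGroup P, ∀ x : P, (x : Ω) ∈ Z ↔ ((α x : P) : Ω) ∈ Z := fun α hα x =>
    ⟨hinv α hα x, fun hx => by simpa using hinv α⁻¹ (inv_mem hα) (α x) hx⟩
  refine le_of_layerStab hS hc hr hS' (fun b : Bool => if b then ⊥ else Z) (fun b => if b then Z else ⊤)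
    (fun b α hα x => ?_) (fun b α hα x => ?_) (fun b q hq x hx => ?_) ?_
  · cases b
    · exact hiff α hα x
    · simp [Subgroup.mem_bot]
  · cases b
    · simp
    · exact hiff α hα x
  · cases b
    · simpa [mul_assoc] using h.comm_mem _ (inv_mem (hc.1 x.2)) q hq
    · simp only [if_true, Subgroup.mem_bot]
      rw [h.central _ hx q hq]
      group
  · rintro ⟨γ, hγ, -⟩
    obtain ⟨b, -, hb⟩ := exists_pow_fix (Z := Z) (γ := γ) (a := 0) hS hc.1
      (fun x hx => ((hγ false).1 x).1 (by simpa using hx)) (fun x hx => by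
        have h1 := (hγ true).2 x (by simpa using hx)
        simp only [if_true, Subgroup.mem_bot, inv_mul_eq_one] at h1
        rw [pow_zero, pow_one]
        exact Subtype.ext h1.symm)
    exact ⟨b, Subtype.ext (MulEquiv.ext fun x => hb x (by simpa using (hγ false).2 x (Subgroup.mem_top _)))⟩

/-- A non-commutative centric subgroup has `Z` as its centre. -/
theorem Heis.mem_iff (h : Heis S Z) {P : Subgroup Ω} (hP : P ≤ S) (hna : ∃ a ∈ P, ∃ b ∈ P, a * b ≠ b * a)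
    {x : Ω} (hx : x ∈ P) : x ∈ Z ↔ ∀ y ∈ P, y * x = x * y := by
  refine ⟨fun hz y hy => h.central x hz y (hP hy), fun hall => ?_⟩
  by_contra hxZ
  obtain ⟨a, ha, b, hb, hab⟩ := hna
  exact hab (h.abel x (hP hx) hxZ a (hP ha) b (hP hb) (hall a ha) (hall b hb))

theorem eq_of_noncomm (hS : IsPGroup p S) (h : Heis S Z) {P : Subgroup Ω} (hc : F.IsCentric P)
    (hr : F.IsRadical p P) (hna : ∃ a ∈ P, ∃ b ∈ P, a * b ≠ b * a) : P = S := by
  refine eq_of_invariant hS h hc hr fun α _ x hx => (h.mem_iff hc.1 hna (α x).2).2 fun y hy => ?_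
  have h1 := congrArg Subtype.val (congrArg α
    (Subtype.ext ((h.mem_iff hc.1 hna x.2).1 hx _ (α⁻¹ ⟨y, hy⟩).2) : α⁻¹ ⟨y, hy⟩ * x = x * α⁻¹ ⟨y, hy⟩))
  simpa using h1

/-- The commutative centric radical subgroups are centralisers. -/
theorem Heis.eq_centralizer (h : Heis S Z) {P : Subgroup Ω} (hc : F.IsCentric P)
    (hab : ∀ a ∈ P, ∀ b ∈ P, a * b = b * a) {x : Ω} (hx : x ∈ P) (hxZ : x ∉ Z) {a : Ω} :
    a ∈ P ↔ a ∈ S ∧ a * x = x * a := by
  refine ⟨fun ha => ⟨hc.1 ha, hab a ha x hx⟩, fun ⟨ha, hax⟩ =>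
    hc.2 P (isConj_refl F hc.1) (mem_centralizerIn'.2 ⟨ha, fun y hy => ?_⟩)⟩
  rw [h.abel x (hc.1 hx) hxZ a ha y (hc.1 hy) hax (hab y hy x hx), mul_inv_cancel_right]

theorem not_central_core (hS : IsPGroup p S) (hF : F.IsSaturated p) (h : Heis S Z) {P Q : Subgroup Ω}
    (hfn : F.IsFullyNormalized P) (hc : F.IsCentric P) (hr : F.IsRadical p P) (hne : P ≠ S)
    (hQ : F.IsNormal Q) (hQZ : Q ≤ Z) : Q = ⊥ := by
  classical
  rw [Subgroup.eq_bot_iff_forall]
  intro w hwQ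
  haveI := finite_sub hc.1
  haveI := GT.finite_mulAut ↥P
  obtain ⟨g, hg, x₀, hx₀, hx⟩ : ∃ g ∈ F.autGroup P, ∃ x₀ : P, (x₀ : Ω) ∈ Z ∧ ((g x₀ : P) : Ω) ∉ Z := by
    by_contra hall
    push Not at hall
    exact hne (eq_of_invariant hS h hc hr hall)
  set x : P := g x₀ with hxdef
  have hwP : w ∈ P := h.le_of_centric hc (hQZ hwQ)
  set w' : P := ⟨w, hwP⟩
  obtain ⟨-, R, hR⟩ := fullyAutomized_of_fullyNormalized hS hF hfn
  -- automorphisms induced by `S` fix `Z`
  have hfixR : ∀ a ∈ R, ∀ z : P, (z : Ω) ∈ Z → (a : MulAut P) z = z := fun a ha z hz => by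
    obtain ⟨s, hs, e⟩ := mem_autInducedBy.1 (show (a : MulAut P) ∈ autInducedBy S P from
      Subgroup.mem_subgroupOf.1 (hR ▸ ha))
    apply Subtype.ext
    rw [e, h.central _ hz s hs, mul_inv_cancel_right]
  let gA : F.autGroup P := ⟨g, hg⟩
  let V : Sylow p (F.autGroup P) := gA • R
  have hV : ∀ a ∈ V, (a : MulAut P) x = x ∧ (a : MulAut P) w' = w' := by
    intro a ha
    obtain ⟨b, hb, rfl⟩ : ∃ b ∈ R, gA * b * gA⁻¹ = a := by
      rw [← SetLike.mem_coe, Sylow.coe_smul] at ha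
      obtain ⟨b, hb, rfl⟩ := ha
      exact ⟨b, hb, rfl⟩
    refine ⟨?_, ?_⟩
    · simp only [Subgroup.coe_mul, Subgroup.coe_inv, MulAut.mul_apply, hxdef, gA, MulAut.inv_apply_self]
      rw [hfixR b hb x₀ hx₀]
    · simp only [Subgroup.coe_mul, Subgroup.coe_inv, MulAut.mul_apply, gA]
      rw [hfixR b hb _ (hQZ ((autGroup_mem_iff_of_stronglyClosed (isNormal_stronglyClosed hQ) hc.1
        (inv_mem hg) w').1 hwQ)), MulAut.apply_inv_self]
  let L : Subgroup (F.autGroup P) :=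
    { carrier := {a | (a : MulAut P) w' = w' ∧ ∃ i : ℤ, (a : MulAut P) x = x * w' ^ i}
      one_mem' := ⟨rfl, 0, by simp⟩
      mul_mem' := fun {a b} ⟨ha, i, hi⟩ ⟨hb, j, hj⟩ => ⟨by simp [hb, ha], i + j, by
        simp [hj, map_zpow, ha, hi, mul_assoc, zpow_add]⟩
      inv_mem' := fun {a} ⟨ha, i, hi⟩ => ⟨by
          apply (a : MulAut P).injective
          simp [ha], -i, by
          apply (a : MulAut P).injective
          simp [map_zpow, ha, hi]⟩ }
  have hVL : (V : Subgroup (F.autGroup P)) ≤ L := fun a ha => ⟨(hV a ha).2, 0, by simp [(hV a ha).1]⟩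
  obtain ⟨s, hs, hsx⟩ := h.surj x (hc.1 x.2) hx w (hQZ hwQ)
  have hsn : s ∈ Subgroup.normalizer (P : Set Ω) := mem_normalizer_of_conj_mem fun y hy => by
    have h1 := P.mul_mem (h.le_of_centric hc (h.comm_mem s hs y (hc.1 hy))) hy
    rwa [inv_mul_cancel_right] at h1
  have hu : (P.normalizerMonoidHom ⟨s, hsn⟩ : MulAut P) ∈ autInducedBy S P :=
    mem_autInducedBy.2 ⟨s, hs, fun _ => rfl⟩
  let uA : F.autGroup P := ⟨_, autInducedBy_le_autGroup F hc.1 hu⟩
  have huR : uA ∈ R := by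
    show uA ∈ (R : Subgroup (F.autGroup P))
    rw [hR]
    exact hu
  have hux : (uA : MulAut P) x = x * w' := Subtype.ext hsx
  have huw : (uA : MulAut P) w' = w' := hfixR _ huR w' (hQZ hwQ)
  have huL : uA ∈ L := ⟨huw, 1, by rw [hux, zpow_one]⟩
  obtain ⟨W, hW⟩ := ((R.isPGroup'.to_le ((Subgroup.zpowers_le.2 huR) :
      Subgroup.zpowers uA ≤ (R : Subgroup (F.autGroup P)))).comap_of_injective L.subtype L.subtype_injective
    ).exists_le_sylow
  obtain ⟨hh, hhV⟩ := MulAction.exists_smul_eq ↥L W (V.subtype hVL)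
  have hu' : (⟨uA, huL⟩ : L) ∈ W := hW (Subgroup.mem_zpowers uA)
  have hmem : hh * ⟨uA, huL⟩ * hh⁻¹ ∈ V.subtype hVL := by
    rw [← hhV, ← SetLike.mem_coe, Sylow.coe_smul]
    exact ⟨_, hu', rfl⟩
  have h1 := (hV _ (Subgroup.mem_subgroupOf.1 hmem)).1
  obtain ⟨i, hi⟩ := (L.inv_mem hh.2).2
  have h2 := congrArg (fun v : P => ((hh.1 : MulAut P)⁻¹ : MulAut P) v) h1
  simp only [Subgroup.coe_mul, Subgroup.coe_inv, MulAut.mul_apply, MulAut.inv_apply_self] at h2 hi
  rw [hi, map_mul, map_zpow, hux, huw, mul_left_inj, mul_eq_left] at h2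
  exact congrArg Subtype.val h2

theorem isConstrained (hS : IsPGroup p S) (hF : F.IsSaturated p) (h : Heis S Z) (hcore : F.core ≠ ⊥) :
    F.IsConstrained p := by
  classical
  have hcS : F.IsCentric S := by
    refine ⟨le_rfl, fun Q hQ => ?_⟩
    obtain ⟨φ, hφ, hr⟩ := hQ
    have hle : Q ≤ S := by rw [← hr]; rintro _ ⟨y, rfl⟩; exact (F.le_of_mem hφ).2 y
    rw [Subgroup.eq_of_le_of_card_ge hle (isConj_card (F := F) ⟨φ, hφ, hr⟩).ge]
    exact centralizerIn_le S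
  by_cases hall : ∀ P, F.IsFullyNormalized P → F.IsCentric P → F.IsRadical p P → P = S
  · exact ⟨hF, S, isNormal_of_centricRadical hS hF le_rfl fun P hfn hc hr =>
      ⟨(hall P hfn hc hr).ge, fun α _ x _ => hc.1 (α x).2⟩, hcS⟩
  push Not at hall
  obtain ⟨P₀, hfn₀, hc₀, hr₀, hne₀⟩ := hall
  have hQn : F.IsNormal F.core := FusionAlperin.Join.isNormal_core F
  have hQZ : ¬ F.core ≤ Z := fun hle => hcore (not_central_core hS hF h hfn₀ hc₀ hr₀ hne₀ hQn hle)
  obtain ⟨x, hxQ, hxZ⟩ := SetLike.not_le_iff_exists.1 hQZ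
  have habel : ∀ P, F.IsCentric P → F.IsRadical p P → P ≠ S → ∀ a ∈ P, ∀ b ∈ P, a * b = b * a := by
    intro P hc hr hne
    by_contra hna
    push Not at hna
    exact hne (eq_of_noncomm hS h hc hr hna)
  have hxP : ∀ P, F.IsCentric P → F.IsRadical p P → x ∈ P := fun P hc hr =>
    isNormal_le_centricRadical hS hQn hc hr hxQ
  refine ⟨hF, P₀, isNormal_of_centricRadical hS hF hc₀.1 fun P hfn hc hr => ?_, hc₀⟩
  by_cases hne : P = S
  · subst hne
    refine ⟨hc₀.1, fun α hα y hy => ?_⟩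
    have hna : ∃ a ∈ P, ∃ b ∈ P, a * b ≠ b * a := by
      by_contra hab
      push Not at hab
      refine hne₀ (le_antisymm hc₀.1 fun a ha => hc₀.2 P₀ (isConj_refl F hc₀.1)
        (mem_centralizerIn'.2 ⟨ha, fun b hb => ?_⟩))
      rw [hab a ha b (hc₀.1 hb), mul_inv_cancel_right]
    set x' : P := ⟨x, hQn.1 hxQ⟩
    have hαxQ : ((α x' : P) : Ω) ∈ F.core :=
      (autGroup_mem_iff_of_stronglyClosed (isNormal_stronglyClosed hQn) le_rfl hα x').1 hxQ
    have hαxZ : ((α x' : P) : Ω) ∉ Z := fun hz => hxZ ((h.mem_iff le_rfl hna x'.2).2 fun b hb => by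
      have h1 := congrArg Subtype.val (congrArg (fun v : P => (α⁻¹ : MulAut P) v)
        (Subtype.ext ((h.mem_iff le_rfl hna (α x').2).1 hz _ (α ⟨b, hb⟩).2) :
          α ⟨b, hb⟩ * α x' = α x' * α ⟨b, hb⟩))
      simpa using h1)
    have hαxP : ((α x' : P) : Ω) ∈ P₀ := isNormal_le_centricRadical hS hQn hc₀ hr₀ hαxQ
    rw [h.eq_centralizer hc₀ (habel P₀ hc₀ hr₀ hne₀) hαxP hαxZ]
    refine ⟨(α y).2, ?_⟩
    have h1 : y * x' = x' * y := Subtype.ext (habel P₀ hc₀ hr₀ hne₀ y hy x (hxP P₀ hc₀ hr₀))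
    exact congrArg Subtype.val (show α y * α x' = α x' * α y by rw [← map_mul, h1, map_mul])
  · have heq : P₀ = P := by
      ext a
      rw [h.eq_centralizer hc₀ (habel P₀ hc₀ hr₀ hne₀) (hxP P₀ hc₀ hr₀) hxZ,
        h.eq_centralizer hc (habel P hc hr hne) (hxP P hc hr) hxZ]
    exact ⟨heq.le, fun α _ y _ => heq ▸ (α y).2⟩

theorem isRealizable (hS : IsPGroup p S) (hF : F.IsSaturated p) (h : Heis S Z) (hcore : F.core ≠ ⊥) :
    F.IsRealizable p := by
  obtain ⟨G, hG, ι, hm⟩ := FusionAlperin.Model.exists_model_of_constrained hS (isConstrained hS hF h hcore)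
  exact ⟨G, hG, hm.1, ι, hm.2.1, hm.2.2.1⟩

end Cfsg.Agent.Lib.FusionP3.HeisCore
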