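import Cfsg.Agent.Lib.FusionP3.HeisCore.Basic
import Cfsg.Agent.Lib.AutPSL.Sylow

/-!
A Sylow subgroup of `SL₃` in defining characteristic satisfies the hypotheses of the core theorem.
-/

set_option autoImplicit false

namespace Cfsg.Agent.Lib.FusionP3.HeisCore

open Matrix Cfsg.Agent.Lib.AutPSL

variable {K : Type*} [Field K]

theorem card_uni_eq [Fintype K] (p : ℕ) [Fact p.Prime] [CharP K p] (n : ℕ) :
    Nat.card (uni n K) = p ^ (Nat.card (Matrix.SpecialLinearGroup (Fin n) K)).factorization p := by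
  have hGL := Cfsg.Agent.Lib.Linear.factorization_card_GL (F := K) p n
  obtain ⟨k, -, hq⟩ := Cfsg.Agent.Lib.Linear.exists_card_eq_pow (F := K) p
  have hp : p.Prime := Fact.out
  have hdvd := Subgroup.card_subgroup_dvd_card (uni n K)
  rw [card_uni, hq, ← pow_mul] at hdvd ⊢
  rw [hq, ← pow_mul] at hGL
  have h1 : k * (n * (n - 1) / 2) ≤ (Nat.card (Matrix.SpecialLinearGroup (Fin n) K)).factorization p :=
    (hp.pow_dvd_iff_le_factorization Nat.card_pos.ne').1 hdvd
  have h2 : (Nat.card (Matrix.SpecialLinearGroup (Fin n) K)).factorization p ≤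
      (Nat.card (GL (Fin n) K)).factorization p :=
    (Nat.factorization_le_iff_dvd Nat.card_pos.ne' Nat.card_pos.ne').2
      (Subgroup.card_dvd_of_injective _ Matrix.SpecialLinearGroup.toGL_injective) p
  rw [Nat.pow_right_injective hp.two_le hGL] at h2
  rw [le_antisymm h1 h2]

variable [Finite K]

set_option quotPrecheck false in
local notation "U3" => ↥(uni 3 K)

/-- The coordinates of a unitriangular matrix. -/
def ca (g : U3) : K := (g.1 : Matrix (Fin 3) (Fin 3) K) 0 1
/-- The coordinates of a unitriangular matrix. -/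
def cb (g : U3) : K := (g.1 : Matrix (Fin 3) (Fin 3) K) 1 2
/-- The coordinates of a unitriangular matrix. -/
def cc (g : U3) : K := (g.1 : Matrix (Fin 3) (Fin 3) K) 0 2

theorem diag_one (g : U3) (i : Fin 3) : (g.1 : Matrix (Fin 3) (Fin 3) K) i i = 1 := (mem_uni_iff.1 g.2).1 i

theorem low_zero (g : U3) {i j : Fin 3} (h : j < i) : (g.1 : Matrix (Fin 3) (Fin 3) K) i j = 0 :=
  (mem_uni_iff.1 g.2).2 h

theorem ext3 {g h : U3} (h1 : ca g = ca h) (h2 : cb g = cb h) (h3 : cc g = cc h) : g = h := by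
  apply Subtype.ext
  apply Subtype.ext
  ext i j
  fin_cases i <;> fin_cases j <;>
    first
    | exact (diag_one g _).trans (diag_one h _).symm
    | exact (low_zero g (by decide)).trans (low_zero h (by decide)).symm
    | exact h1
    | exact h2
    | exact h3

theorem ca_mul (g h : U3) : ca (g * h) = ca g + ca h := by
  simp only [ca, Subgroup.coe_mul, Matrix.SpecialLinearGroup.coe_mul, Matrix.mul_apply, Fin.sum_univ_three,
    diag_one, low_zero h (show (1 : Fin 3) < 2 by decide)]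
  ring

theorem cb_mul (g h : U3) : cb (g * h) = cb g + cb h := by
  simp only [cb, Subgroup.coe_mul, Matrix.SpecialLinearGroup.coe_mul, Matrix.mul_apply, Fin.sum_univ_three,
    diag_one, low_zero g (show (0 : Fin 3) < 1 by decide)]
  ring

theorem cc_mul (g h : U3) : cc (g * h) = cc g + cc h + ca g * cb h := by
  simp only [ca, cb, cc, Subgroup.coe_mul, Matrix.SpecialLinearGroup.coe_mul, Matrix.mul_apply,
    Fin.sum_univ_three, diag_one]
  ring

theorem commute_iff {g h : U3} : g * h = h * g ↔ ca g * cb h = ca h * cb g := by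
  constructor
  · intro he
    have h1 := congrArg cc he
    rw [cc_mul, cc_mul] at h1
    linear_combination h1
  · intro he
    exact ext3 (by rw [ca_mul, ca_mul, add_comm]) (by rw [cb_mul, cb_mul, add_comm])
      (by rw [cc_mul, cc_mul]; linear_combination he)

theorem exists_coords (a b : K) : ∃ g : U3, ca g = a ∧ cb g = b := by
  have h : IsUni !![1, a, 0; 0, 1, b; 0, 0, 1] := by
    refine ⟨fun i => by fin_cases i <;> rfl, fun i j hij => ?_⟩
    fin_cases i <;> fin_cases j <;> simp_all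
  exact ⟨⟨⟨_, det_of_isUni h⟩, mem_uni_iff.2 h⟩, rfl, rfl⟩

variable (K) in
/-- The centre of the unitriangular group. -/
def zCoord : Subgroup U3 where
  carrier := {g | ca g = 0 ∧ cb g = 0}
  one_mem' := ⟨by simp [ca], by simp [cb]⟩
  mul_mem' := fun {g h} hg hh => ⟨by simp [ca_mul, hg.1, hh.1], by simp [cb_mul, hg.2, hh.2]⟩
  inv_mem' := fun {g} hg => by
    constructor
    · have h := ca_mul g g⁻¹
      rw [mul_inv_cancel, hg.1, show ca (1 : U3) = 0 by simp [ca], zero_add] at h
      exact h.symm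
    · have h := cb_mul g g⁻¹
      rw [mul_inv_cancel, hg.2, show cb (1 : U3) = 0 by simp [cb], zero_add] at h
      exact h.symm

theorem heis_range {Ω : Type*} [Group Ω] {S : Subgroup Ω} (e : U3 ≃* ↥S) :
    Heis S (((zCoord K).map e.toMonoidHom).map S.subtype) := by
  have hS : ∀ x ∈ S, ∃ g : U3, ((e g : S) : Ω) = x := fun x hx => ⟨e.symm ⟨x, hx⟩, by rw [e.apply_symm_apply]⟩
  have hmem : ∀ g : U3, ((e g : S) : Ω) ∈ ((zCoord K).map e.toMonoidHom).map S.subtype ↔ g ∈ zCoord K := by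
    intro g
    constructor
    · rintro ⟨_, ⟨h, hh, rfl⟩, he⟩
      rwa [← e.injective (Subtype.ext he)]
    · exact fun hg => ⟨_, ⟨g, hg, rfl⟩, rfl⟩
  have hcomm : ∀ g h : U3, ((e g : S) : Ω) * (e h : S) = (e h : S) * (e g : S) ↔ g * h = h * g := fun g h => by
    rw [← Subgroup.coe_mul, ← Subgroup.coe_mul, Subtype.coe_inj, ← map_mul, ← map_mul, e.injective.eq_iff]
  refine ⟨Subgroup.map_subtype_le _, ?_, ?_, ?_, ?_⟩
  · intro x hx y hy
    obtain ⟨g, rfl⟩ := hS x hx
    obtain ⟨h, rfl⟩ := hS y hy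
    rw [← Subgroup.coe_inv, ← Subgroup.coe_inv, ← Subgroup.coe_mul, ← Subgroup.coe_mul, ← Subgroup.coe_mul,
      ← map_inv, ← map_inv, ← map_mul, ← map_mul, ← map_mul, hmem]
    have ha : ∀ u : U3, ca u⁻¹ = -ca u := fun u => by
      have h := ca_mul u u⁻¹
      rw [mul_inv_cancel, show ca (1 : U3) = 0 by simp [ca]] at h
      linear_combination -h
    have hb : ∀ u : U3, cb u⁻¹ = -cb u := fun u => by
      have h := cb_mul u u⁻¹
      rw [mul_inv_cancel, show cb (1 : U3) = 0 by simp [cb]] at h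
      linear_combination -h
    exact ⟨by simp only [ca_mul, ha]; ring, by simp only [cb_mul, hb]; ring⟩
  · intro z hz s hs
    obtain ⟨g, rfl⟩ := hS s hs
    obtain ⟨h, rfl⟩ := hS z (Subgroup.map_subtype_le _ hz)
    obtain ⟨h1, h2⟩ := (hmem h).1 hz
    rw [hcomm, commute_iff, h1, h2]
    ring
  · intro x hx hxZ z hz
    obtain ⟨g, rfl⟩ := hS x hx
    obtain ⟨h, rfl⟩ := hS z (Subgroup.map_subtype_le _ hz)
    obtain ⟨h1, h2⟩ := (hmem h).1 hz
    rw [hmem] at hxZ
    obtain ⟨s, hs⟩ : ∃ s : U3, s * g * s⁻¹ = g * h := by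
      by_cases hga : ca g = 0
      · have hgb : cb g ≠ 0 := fun hb => hxZ ⟨hga, hb⟩
        obtain ⟨s, hsa, hsb⟩ := exists_coords (cc h * (cb g)⁻¹) (0 : K)
        refine ⟨s, mul_inv_eq_iff_eq_mul.2 (ext3 ?_ ?_ ?_)⟩
        · simp only [ca_mul, h1]; ring
        · simp only [cb_mul, h2]; ring
        · simp only [cc_mul, cb_mul, ca_mul, h1, h2, hsa, hsb, hga]
          field_simp
          ring
      · obtain ⟨s, hsa, hsb⟩ := exists_coords (0 : K) (-(cc h * (ca g)⁻¹))
        refine ⟨s, mul_inv_eq_iff_eq_mul.2 (ext3 ?_ ?_ ?_)⟩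
        · simp only [ca_mul, h1]; ring
        · simp only [cb_mul, h2]; ring
        · simp only [cc_mul, cb_mul, ca_mul, h1, h2, hsa, hsb]
          field_simp
          ring
    refine ⟨(e s : S), (e s).2, ?_⟩
    rw [← Subgroup.coe_inv, ← Subgroup.coe_mul, ← Subgroup.coe_mul, ← Subgroup.coe_mul, ← map_inv, ← map_mul,
      ← map_mul, ← map_mul, hs]
  · intro x hx hxZ a ha b hb hax hbx
    obtain ⟨g, rfl⟩ := hS x hx
    obtain ⟨u, rfl⟩ := hS a ha
    obtain ⟨v, rfl⟩ := hS b hb
    rw [hcomm, commute_iff] at hax hbx ⊢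
    rw [hmem] at hxZ
    by_cases hga : ca g = 0
    · have hgb : cb g ≠ 0 := fun hb => hxZ ⟨hga, hb⟩
      rw [hga, zero_mul] at hax hbx
      rw [(mul_eq_zero.1 hax).resolve_right hgb, (mul_eq_zero.1 hbx).resolve_right hgb]
      ring
    · refine mul_left_cancel₀ hga ?_
      linear_combination (-ca v) * (-hax) + ca u * (-hbx)

theorem exists_heis {Ω : Type*} [Group Ω] {S : Subgroup Ω} [Fintype K] (p : ℕ) [Fact p.Prime] [CharP K p]
    (T : Sylow p (Matrix.SpecialLinearGroup (Fin 3) K))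
    (e : ↥S ≃* ↥(T : Subgroup (Matrix.SpecialLinearGroup (Fin 3) K))) : ∃ Z, Heis S Z := by
  let P : Sylow p (Matrix.SpecialLinearGroup (Fin 3) K) := Sylow.ofCard (uni 3 K) (card_uni_eq p 3)
  exact ⟨_, heis_range ((P.equiv T).trans e.symm)⟩

end Cfsg.Agent.Lib.FusionP3.HeisCore
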